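import Cfsg.Agent.Lib.SpAmalgam.SpFour

/-!
The relations of the four-dimensional symplectic group give a homomorphism.
-/

set_option autoImplicit false
set_option linter.unusedSectionVars false

namespace Cfsg.Agent.SpBound

open SpAmalgam

variable {F : Type*} [Field F] [Finite F] {G : Type*} [Group G] {j : Fˣ} {φ : S2 F →* G} {s x : G}

/-- The values of the letters of the four-dimensional group. -/
def val4 {H : Type*} [Group H] (φ : S2 F →* H) (s x : H) : S2 F ⊕ S2 F ⊕ Unit → H :=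
  Sum.elim (fun g => φ g) (Sum.elim (fun g => s * φ g * s⁻¹) fun _ => x)

theorem exists_hom4 (R : Four.Rel4 j φ s x) (hj : ∀ t, t ∈ Subgroup.zpowers j)
    (hsw : ∃ sw : FreeGroup (S2 F ⊕ S2 F ⊕ Unit),
      FreeGroup.lift (val4 (emb (0 : Fin 2)) (Four.swap4 : Gsp F 2) Four.x4) sw = Four.swap4 ∧
        FreeGroup.lift (val4 φ s x) sw = s) :
    ∃ f : Gsp F 2 →* G, (∀ g, f (emb 0 g) = φ g) ∧ f Four.swap4 = s ∧ f Four.x4 = x := by
  have T := Four.rel4_sp (K := F) j
  let φ' : S2 F →* Gsp F 2 × G := (emb 0).prod φ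
  let s' : Gsp F 2 × G := (Four.swap4, s)
  let x' : Gsp F 2 × G := (Four.x4, x)
  have R' : Four.Rel4 j φ' s' x' :=
    { comm := fun g h => Prod.ext (T.comm g h).eq (R.comm g h).eq
      s2 := Prod.ext T.s2 R.s2
      sx := Prod.ext T.sx.eq R.sx.eq
      dx := Prod.ext T.dx R.dx
      ux := fun c hc => Prod.ext (T.ux c hc).eq (R.ux c hc).eq
      hr := fun c hc hc0 => Prod.ext (T.hr c hc hc0) (R.hr c hc hc0) }
  set K' := Subgroup.closure (Set.range φ' ∪ Set.range (Four.σ φ' s') ∪ {x'}) with hK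
  have m0 : ∀ g, φ' g ∈ K' := fun g => Subgroup.subset_closure (Or.inl (Or.inl ⟨g, rfl⟩))
  have m1 : ∀ g, Four.σ φ' s' g ∈ K' := fun g => Subgroup.subset_closure (Or.inl (Or.inr ⟨g, rfl⟩))
  have mx : x' ∈ K' := Subgroup.subset_closure (Or.inr rfl)
  have ms : s' ∈ K' := by
    obtain ⟨sw, h1, h2⟩ := hsw
    have e : FreeGroup.lift (val4 φ' s' x') sw = s' := by
      refine Prod.ext ((DFunLike.congr_fun (f := (MonoidHom.fst _ _).comp (FreeGroup.lift (val4 φ' s' x')))
        (g := FreeGroup.lift (val4 (emb (0 : Fin 2)) (Four.swap4 : Gsp F 2) Four.x4))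
        (FreeGroup.ext_hom _ _ fun i => by rcases i with g | g | u <;> simp [val4, φ', s', x']) sw).trans h1)
        ((DFunLike.congr_fun (f := (MonoidHom.snd _ _).comp (FreeGroup.lift (val4 φ' s' x')))
        (g := FreeGroup.lift (val4 φ s x))
        (FreeGroup.ext_hom _ _ fun i => by rcases i with g | g | u <;> simp [val4, φ', s', x']) sw).trans h2)
    rw [← e]
    clear e h1 h2
    induction sw using FreeGroup.induction_on with
    | C1 => rw [map_one]; exact one_mem _
    | of i =>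
      rw [FreeGroup.lift_apply_of]
      rcases i with g | g | u
      · exact m0 g
      · exact m1 g
      · exact mx
    | inv_of i hi => rw [map_inv]; exact inv_mem hi
    | mul a b ha hb => rw [map_mul]; exact mul_mem ha hb
  let φK : S2 F →* K' := φ'.codRestrict _ m0
  have RK : Four.Rel4 j φK ⟨s', ms⟩ ⟨x', mx⟩ :=
    { comm := fun g h => Subtype.ext (R'.comm g h).eq
      s2 := Subtype.ext R'.s2
      sx := Subtype.ext R'.sx.eq
      dx := Subtype.ext R'.dx
      ux := fun c hc => Subtype.ext (R'.ux c hc).eq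
      hr := fun c hc hc0 => Subtype.ext (R'.hr c hc hc0) }
  let π : K' →* Gsp F 2 := (MonoidHom.fst _ _).comp K'.subtype
  have hgen : Subgroup.closure (Set.range φK ∪ Set.range (Four.σ φK ⟨s', ms⟩) ∪ {⟨x', mx⟩}) = ⊤ := by
    refine Subgroup.map_injective K'.subtype_injective ?_
    rw [MonoidHom.map_closure, ← MonoidHom.range_eq_map, Subgroup.range_subtype, Set.image_union,
      Set.image_union, ← Set.range_comp, ← Set.range_comp, Set.image_singleton]
    rfl
  have hinj : Function.Injective π := Four.injective_of_rel RK hj π (fun g => rfl) rfl rfl hgen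
  have hsurj : Function.Surjective π := by
    rw [← MonoidHom.range_eq_top]
    exact Four.top_of_mem _ (fun g => ⟨φK g, rfl⟩)
      (fun g => ⟨Four.σ φK ⟨s', ms⟩ g, Four.swap4_emb g⟩) ⟨⟨x', mx⟩, rfl⟩
  let e := MulEquiv.ofBijective π ⟨hinj, hsurj⟩
  refine ⟨(MonoidHom.snd _ _).comp (K'.subtype.comp e.symm.toMonoidHom), fun g => ?_, ?_, ?_⟩
  · show ((e.symm (emb 0 g) : K') : Gsp F 2 × G).2 = φ g
    rw [show e.symm (emb 0 g) = φK g from e.symm_apply_eq.2 rfl]; rfl
  · show ((e.symm Four.swap4 : K') : Gsp F 2 × G).2 = s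
    rw [show e.symm Four.swap4 = ⟨s', ms⟩ from e.symm_apply_eq.2 rfl]
  · show ((e.symm Four.x4 : K') : Gsp F 2 × G).2 = x
    rw [show e.symm Four.x4 = ⟨x', mx⟩ from e.symm_apply_eq.2 rfl]

end Cfsg.Agent.SpBound
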