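import Cfsg.Agent.Lib.SpBound.Short.Pres
import Cfsg.Agent.Lib.SpBound.Two

/-!
Symplectic groups and their central quotients on few generators and relations.
-/

set_option autoImplicit false

namespace Cfsg.Agent.SpBound

open SpAmalgam BoundedPres

theorem presG_quotient {T : Type*} [Group T] {g r : ℕ} (h : PresG T g r) (N : Subgroup T) [N.Normal] (z : T)
    (hz : z ∈ N) (hN : N ≤ Subgroup.zpowers z) : PresG (T ⧸ N) g (r + 1) := by
  classical
  obtain ⟨α, hα, R, v, h1, h2, hv, hgen, hu⟩ := h.exists_data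
  obtain ⟨u, hu'⟩ := exists_word v (t := z) (hgen ▸ Subgroup.mem_top _)
  refine (PresG.of_data (insert u R) (Finset.card_insert_le _ _) (fun i => QuotientGroup.mk' N (v i))
    ?_ ?_ ?_).pad h1 (by omega)
  · intro x hx
    rw [show FreeGroup.lift (fun i => QuotientGroup.mk' N (v i)) =
      (QuotientGroup.mk' N).comp (FreeGroup.lift v) from
        FreeGroup.ext_hom _ _ fun i => by simp, MonoidHom.comp_apply]
    rcases Finset.mem_insert.1 hx with h | h
    · rw [h, hu']; exact (QuotientGroup.eq_one_iff z).2 hz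
    · rw [hv x h, map_one]
  · rw [show (Set.range fun i => QuotientGroup.mk' N (v i)) = QuotientGroup.mk' N '' Set.range v by
      rw [← Set.range_comp]; rfl, ← MonoidHom.map_closure, hgen,
      Subgroup.map_top_of_surjective _ (QuotientGroup.mk'_surjective N)]
  · intro G _ w hw _
    obtain ⟨f, hf⟩ := hu G w fun x hx => hw x (Finset.mem_insert_of_mem hx)
    have hfz : f z = 1 := by
      rw [← hu', show f (FreeGroup.lift v u) = (f.comp (FreeGroup.lift v)) u from rfl,
        show f.comp (FreeGroup.lift v) = FreeGroup.lift w from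
          FreeGroup.ext_hom _ _ fun i => by simp [hf]]
      exact hw u (Finset.mem_insert_self _ _)
    exact ⟨QuotientGroup.lift N f (hN.trans (Subgroup.zpowers_le.2 (MonoidHom.mem_ker.2 hfz))), hf⟩

variable {F : Type*} [Field F] [Fintype F]

theorem sp_pair {n : ℕ} (hn : 1 ≤ n) {g r : ℕ} (h : PresG (Gsp F n) g r) :
    (∃ rels : Finset (FreeGroup (Fin g)), rels.card ≤ r ∧
      Nonempty (PresentedGroup (↑rels : Set (FreeGroup (Fin g))) ≃* Matrix.symplecticGroup (Fin n) F)) ∧
    (∃ rels : Finset (FreeGroup (Fin g)), rels.card ≤ r + 1 ∧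
      Nonempty (PresentedGroup (↑rels : Set (FreeGroup (Fin g))) ≃* Cfsg.PSp n F)) :=
  ⟨h.exact, (presG_quotient h (Subgroup.center (Gsp F n)) negOne negOne_center (center_le hn)).exact⟩

theorem sp_general {n : ℕ} (hn : 3 ≤ n) : PresG (Gsp F n) 9 54 :=
  presG_sp hn (presG_perm n (by omega))

theorem sp_six : PresG (Gsp F 3) 6 40 := presG_sp le_rfl presG_perm_three

end Cfsg.Agent.SpBound
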