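import Cfsg.Agent.Lib.SpBound.Short.Rels
import Cfsg.Agent.Lib.SpBound.SpN
import Cfsg.Agent.Lib.BoundedPres.Short.Sym
import Cfsg.Agent.Lib.SL2Pres.Main

/-!
Symplectic groups on four generators and thirty-six relations more than the symmetric group.
-/

set_option autoImplicit false
set_option linter.unusedSectionVars false
set_option linter.unusedSimpArgs false

namespace Cfsg.Agent.SpBound

open SpAmalgam Equiv BoundedPres
open scoped commutatorElement

variable {F : Type*} [Field F] [Finite F] {n : ℕ}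

theorem pS_swap {i k : Fin n} (h : i ≠ k) :
    pS (swap i k) = i2 ![i, k] (pr h) (Four.swap4 : Gsp F 2) := by
  refine ext_mv fun v => ?_
  funext r
  rcases r with l | l
  · rw [(mv_pS _ v l).1, mv_i2]
    rcases eq_or_ne l i with rfl | h1
    · simp [ext2, res, Four.swap4, mv_mkG, LinearMap.funLeft_apply, ev, fv, h, h.symm]
    rcases eq_or_ne l k with rfl | h2
    · simp [ext2, res, Four.swap4, mv_mkG, LinearMap.funLeft_apply, ev, fv, h, h.symm]
    simp [ext2, res, Four.swap4, mv_mkG, LinearMap.funLeft_apply, ev, fv, h1, h2,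
      swap_apply_of_ne_of_ne h1 h2]
  · rw [(mv_pS _ v l).2, mv_i2]
    rcases eq_or_ne l i with rfl | h1
    · simp [ext2, res, Four.swap4, mv_mkG, LinearMap.funLeft_apply, ev, fv, h, h.symm]
    rcases eq_or_ne l k with rfl | h2
    · simp [ext2, res, Four.swap4, mv_mkG, LinearMap.funLeft_apply, ev, fv, h, h.symm]
    simp [ext2, res, Four.swap4, mv_mkG, LinearMap.funLeft_apply, ev, fv, h1, h2,
      swap_apply_of_ne_of_ne h1 h2]

theorem exists_gens_fix {α : Type*} [Fintype α] [DecidableEq α] (S : Finset α) :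
    ∃ g : Fin 2 → Perm α, (∀ i, ∀ x ∈ S, g i x = x) ∧
      ∀ τ : Perm α, (∀ x ∈ S, τ x = x) → τ ∈ Subgroup.closure (Set.range g) := by
  obtain ⟨u, v, huv⟩ := exists_perm_gen {x : α // x ∉ S}
  refine ⟨fun i => Perm.ofSubtype (![u, v] i), fun i x hx => Perm.ofSubtype_apply_of_not_mem _ fun h => h hx,
    fun τ hτ => ?_⟩
  have hh : ∀ x, τ x ∉ S ↔ x ∉ S := fun x => not_congr ⟨fun h => by
    have := hτ _ h
    rwa [τ.injective this] at h, fun h => by rwa [hτ x h]⟩
  have hmoved : ∀ x, τ x ≠ x → x ∉ S := fun x hx h => hx (hτ x h)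
  rw [← Perm.ofSubtype_subtypePerm hh hmoved,
    show (Set.range fun i => Perm.ofSubtype (![u, v] i)) = Perm.ofSubtype '' Set.range ![u, v] by
      rw [← Set.range_comp]; rfl, ← MonoidHom.map_closure, range_two, huv]
  exact ⟨_, Subgroup.mem_top _, rfl⟩

/-- The letters of the six unordered pairs of three. -/
def pairs3 : List (Fin 3 × Fin 3) := [(0, 0), (0, 1), (0, 2), (1, 1), (1, 2), (2, 2)]

theorem pairs3_cover : ∀ a b : Fin 3, (a, b) ∈ pairs3 ∨ (b, a) ∈ pairs3 := by decide

theorem perm_ext_adjacent {G : Type*} [Group G] {f g : Perm (Fin n) →* G}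
    (h : ∀ (i : Fin n) (hi : (i : ℕ) + 1 < n), f (swap i (nx i hi)) = g (swap i (nx i hi))) : f = g := by
  rcases n with _ | m
  · exact MonoidHom.ext fun x => by rw [Subsingleton.elim x 1, map_one, map_one]
  refine MonoidHom.eq_of_eqOn_denseM (Perm.mclosure_swap_castSucc_succ m) ?_
  rintro _ ⟨i, rfl⟩
  exact h i.castSucc (by simp)

variable (hn : 3 ≤ n)
include hn

set_option maxHeartbeats 1000000 in
theorem presG_sp {g r : ℕ} (hP : PresG (Perm (Fin n)) g r) : PresG (Gsp F n) (g + 4) (r + 36) := by
  classical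
  haveI := Fintype.ofFinite F
  obtain ⟨⟨R0, hR0, ⟨e⟩⟩, -⟩ := SL2Pres.main (K := F)
  obtain ⟨j, hj⟩ := IsCyclic.exists_generator (α := Fˣ)
  obtain ⟨β, hβ, RB, vB, hg, hRB, hvB, hgB, huB⟩ := hP.exists_data
  obtain ⟨fx0, hfx0, hfx0g⟩ := exists_gens_fix ({q0 hn} : Finset (Fin n))
  obtain ⟨fx1, hfx1, hfx1g⟩ := exists_gens_fix ({q0 hn, q1 hn} : Finset (Fin n))
  let gi : Fin 3 → S2 F := fun i => e (PresentedGroup.of i)
  have hgi : Subgroup.closure (Set.range gi) = ⊤ := by
    rw [show Set.range gi = e.toMonoidHom '' Set.range (PresentedGroup.of (rels := (↑R0 : Set (FreeGroup (Fin 3))))) by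
        rw [← Set.range_comp]; rfl, ← MonoidHom.map_closure, PresentedGroup.closure_range_of,
      Subgroup.map_top_of_surjective _ e.surjective]
  have hsurj : ∀ x : S2 F, ∃ u : FreeGroup (Fin 3), FreeGroup.lift gi u = x := fun x =>
    exists_word gi (hgi ▸ Subgroup.mem_top x)
  choose pre hpre using hsurj
  choose preB hpreB using fun x => exists_word vB (t := x) (hgB ▸ Subgroup.mem_top x)
  let W : S2 F → FreeGroup ((Fin 3 ⊕ Unit) ⊕ β) := fun x => FreeGroup.map (fun i => Sum.inl (Sum.inl i)) (pre x)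
  let WB : Perm (Fin n) → FreeGroup ((Fin 3 ⊕ Unit) ⊕ β) := fun x => FreeGroup.map Sum.inr (preB x)
  let X : FreeGroup ((Fin 3 ⊕ Unit) ⊕ β) := FreeGroup.of (Sum.inl (Sum.inr ()))
  let s01 : Perm (Fin n) := swap (q0 hn) (q1 hn)
  let S := WB s01
  let wv : S2 F ⊕ S2 F ⊕ Unit → FreeGroup ((Fin 3 ⊕ Unit) ⊕ β) :=
    Sum.elim W (Sum.elim (fun g => S * W g * S⁻¹) fun _ => X)
  -- words for the exchange and the Levi element
  let P := FreeGroup.lift (val4 (emb (0 : Fin 2)) (Four.swap4 : Gsp F 2) Four.x4)
  have hP' : P.range = ⊤ := Four.top_of_mem _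
    (fun g => ⟨FreeGroup.of (Sum.inl g), FreeGroup.lift_apply_of⟩)
    (fun g => ⟨FreeGroup.of (Sum.inr (Sum.inl g)), FreeGroup.lift_apply_of.trans (Four.swap4_emb g)⟩)
    ⟨FreeGroup.of (Sum.inr (Sum.inr ())), FreeGroup.lift_apply_of⟩
  obtain ⟨sw, hsw⟩ : (Four.swap4 : Gsp F 2) ∈ P.range := hP' ▸ Subgroup.mem_top _
  obtain ⟨lw, hlw⟩ : (lv4 : Gsp F 2) ∈ P.range := hP' ▸ Subgroup.mem_top _
  let Dj := W (dd j)
  let hrel : ∀ c : F, c ≠ 0 → FreeGroup ((Fin 3 ⊕ Unit) ⊕ β) := fun c hc => W (ll c) * X * (W (ll c))⁻¹ *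
      (X * (W (ss * dd (Units.mk0 c hc)) * X * (W (ss * dd (Units.mk0 c hc)))⁻¹) *
        (S * W (uu (-c)) * S⁻¹))⁻¹
  let C := WB (cyc3 hn) * X * (WB (cyc3 hn))⁻¹
  let T2 := WB (swap (q0 hn) (q2 hn))
  let farW : FreeGroup ((Fin 3 ⊕ Unit) ⊕ β) :=
    if h : 4 ≤ n then ⁅X, WB (exch4 hn h) * X * (WB (exch4 hn h))⁻¹⁆ else 1
  let L : List (FreeGroup ((Fin 3 ⊕ Unit) ⊕ β)) := [⁅S, X⁆,
    Dj * X * Dj⁻¹ * (S * Dj * S⁻¹ * X * (S * Dj * S⁻¹)⁻¹)⁻¹,
    ⁅W (uu 1), X⁆, ⁅W (uu (j : F)), X⁆, hrel 1 one_ne_zero, hrel j (Units.ne_zero j),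
    S * (FreeGroup.lift wv sw)⁻¹, farW, ⁅X, C⁆,
    C * (S * C * S⁻¹) * (FreeGroup.lift wv lw * C * (FreeGroup.lift wv lw)⁻¹)⁻¹]
  let cR := pairs3.toFinset.image fun p => ⁅W (gi p.1), S * W (gi p.2) * S⁻¹⁆
  let s0R := Finset.univ.image fun p : Fin 2 × Fin 3 => ⁅WB (fx0 p.1), W (gi p.2)⁆
  let s1R := Finset.univ.image fun i : Fin 2 => ⁅WB (fx1 i), X⁆
  let dR := Finset.univ.image fun i : Fin 3 => ⁅X, T2 * W (gi i) * T2⁻¹⁆
  let R := R0.image (FreeGroup.map fun i => Sum.inl (Sum.inl i)) ∪ RB.image (FreeGroup.map Sum.inr) ∪ cR ∪ s0R ∪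
    s1R ∪ dR ∪ L.toFinset
  have hcard : R.card ≤ RB.card + 36 := by
    have c1 : cR.card ≤ 6 := Finset.card_image_le.trans (List.toFinset_card_le _)
    have c2 : s0R.card ≤ 6 := Finset.card_image_le.trans (le_of_eq rfl)
    have c3 : s1R.card ≤ 2 := Finset.card_image_le.trans (le_of_eq rfl)
    have c4 : dR.card ≤ 3 := Finset.card_image_le.trans (le_of_eq rfl)
    have c5 : L.toFinset.card ≤ 10 := List.toFinset_card_le L
    refine le_trans ((Finset.card_union_le _ _).trans (Nat.add_le_add ((Finset.card_union_le _ _).trans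
      (Nat.add_le_add ((Finset.card_union_le _ _).trans (Nat.add_le_add ((Finset.card_union_le _ _).trans
      (Nat.add_le_add ((Finset.card_union_le _ _).trans (Nat.add_le_add ((Finset.card_union_le _ _).trans
      (Nat.add_le_add (Finset.card_image_le.trans hR0) Finset.card_image_le)) c1)) c2)) c3)) c4)) c5)) ?_
    omega
  -- values
  let T0 : Gsp F 2 →* Gsp F n := i2 ![q0 hn, q1 hn] (q_pr hn)
  let v : (Fin 3 ⊕ Unit) ⊕ β → Gsp F n :=
    Sum.elim (Sum.elim (fun i => T0 (emb 0 (gi i))) fun _ => T0 Four.x4) fun b => pS (vB b)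
  have vW : ∀ x, FreeGroup.lift v (W x) = T0 (emb 0 x) := fun x =>
    eval_word (fun i => Sum.inl (Sum.inl i)) gi v (T0.comp (emb 0)) (fun i => rfl) (hpre x)
  have vWB : ∀ x, FreeGroup.lift v (WB x) = pS x := fun x => eval_word Sum.inr vB v pS (fun i => rfl) (hpreB x)
  have vX : FreeGroup.lift v X = T0 Four.x4 := FreeGroup.lift_apply_of
  have vS : FreeGroup.lift v S = T0 Four.swap4 := (vWB s01).trans (pS_swap (q01 hn))
  have vwv : ∀ u, FreeGroup.lift v (FreeGroup.lift wv u) = T0 (P u) := fun u =>
    DFunLike.congr_fun (f := (FreeGroup.lift v).comp (FreeGroup.lift wv)) (g := T0.comp P)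
      (FreeGroup.ext_hom _ _ fun i => by
        rcases i with g | g | u <;> simp [wv, P, val4, vW, vX, vS]) u
  refine (PresG.of_data R hcard v ?_ ?_ ?_).pad
    (by simp only [Fintype.card_sum, Fintype.card_fin, Fintype.card_unit]; omega)
    (by simp only [Fintype.card_sum, Fintype.card_fin, Fintype.card_unit]; omega)
  · have RT := rels_sp (F := F) hn
    have R4 := Four.rel4_sp (K := F) j
    intro y hy
    simp only [R, Finset.mem_union] at hy
    rcases hy with (((((hy | hy) | hy) | hy) | hy) | hy) | hy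
    · obtain ⟨u, hu, rfl⟩ := Finset.mem_image.1 hy
      refine (DFunLike.congr_fun (f := (FreeGroup.lift v).comp (FreeGroup.map fun i => Sum.inl (Sum.inl i)))
        (g := (T0.comp (emb 0)).comp (e.toMonoidHom.comp (PresentedGroup.mk _)))
        (FreeGroup.ext_hom _ _ fun i => by simp [v, gi]; rfl) u).trans ?_
      rw [MonoidHom.comp_apply, MonoidHom.comp_apply, MonoidHom.comp_apply,
        PresentedGroup.one_of_mem (Finset.mem_coe.2 hu), map_one, map_one, map_one]
    · obtain ⟨u, hu, rfl⟩ := Finset.mem_image.1 hy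
      refine (DFunLike.congr_fun (f := (FreeGroup.lift v).comp (FreeGroup.map Sum.inr))
        (g := pS.comp (FreeGroup.lift vB)) (FreeGroup.ext_hom _ _ fun i => by simp [v]) u).trans ?_
      rw [MonoidHom.comp_apply, hvB u hu, map_one]
    · obtain ⟨p, -, rfl⟩ := Finset.mem_image.1 hy
      rw [map_commutatorElement, map_mul, map_mul, map_inv, vW, vW, vS, ← map_inv, ← map_mul, ← map_mul,
        commutatorElement_eq_one_iff_commute]
      exact (R4.comm _ _).map T0
    · obtain ⟨⟨i, k⟩, -, rfl⟩ := Finset.mem_image.1 hy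
      rw [map_commutatorElement, vW, vWB, commutatorElement_eq_one_iff_commute]
      have h0 : fx0 i (q0 hn) = q0 hn := hfx0 i _ (Finset.mem_singleton_self _)
      show pS (fx0 i) * _ = _ * pS (fx0 i)
      rw [← mul_inv_eq_iff_eq_mul]
      show pS (fx0 i) * i2 ![q0 hn, q1 hn] (q_pr hn) (emb 0 (gi k)) * (pS (fx0 i))⁻¹ = T0 (emb 0 (gi k))
      rw [pS_pair _ (q01 hn), i2_emb, i2_emb]
      simp [h0]
    · obtain ⟨i, -, rfl⟩ := Finset.mem_image.1 hy
      rw [map_commutatorElement, vX, vWB, commutatorElement_eq_one_iff_commute]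
      exact RT.fixed _ (hfx1 i _ (by simp)) (hfx1 i _ (by simp)) _
    · obtain ⟨i, -, rfl⟩ := Finset.mem_image.1 hy
      rw [map_commutatorElement, map_mul, map_mul, map_inv, vX, vW, vWB, commutatorElement_eq_one_iff_commute,
        ← c3_s01 hn, map_mul]
      have := RT.disj Four.x4 (gi i)
      rw [show T0 (emb 1 (gi i)) = pS s01 * T0 (emb 0 (gi i)) * (pS s01)⁻¹ by
        rw [pS_swap (q01 hn), ← map_inv, ← map_mul, ← map_mul, Four.swap4_emb]] at this
      convert this using 1
      simp only [s01, _root_.mul_inv_rev, mul_assoc]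
    · simp only [L, List.mem_toFinset, List.mem_cons, List.not_mem_nil, or_false] at hy
      rcases hy with rfl | rfl | rfl | rfl | rfl | rfl | rfl | rfl | rfl | rfl
      · rw [map_commutatorElement, vS, vX, commutatorElement_eq_one_iff_commute]
        exact R4.sx.map T0
      · simp only [Dj, map_mul, map_inv, vW, vS, vX]
        have := congrArg T0 R4.dx
        simp only [map_mul, map_inv] at this
        exact mul_inv_eq_one.2 this
      · rw [map_commutatorElement, vW, vX, commutatorElement_eq_one_iff_commute]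
        exact (R4.ux 1 (Or.inl rfl)).map T0
      · rw [map_commutatorElement, vW, vX, commutatorElement_eq_one_iff_commute]
        exact (R4.ux j (Or.inr rfl)).map T0
      · simp only [hrel, map_mul, map_inv, vW, vS, vX]
        have := congrArg T0 (R4.hr 1 (Or.inl rfl) one_ne_zero)
        simp only [map_mul, map_inv] at this
        exact mul_inv_eq_one.2 this
      · simp only [hrel, map_mul, map_inv, vW, vS, vX]
        have := congrArg T0 (R4.hr j (Or.inr rfl) (Units.ne_zero j))
        simp only [map_mul, map_inv] at this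
        exact mul_inv_eq_one.2 this
      · rw [map_mul, map_inv, vS, vwv, show P sw = Four.swap4 from hsw, mul_inv_cancel]
      · by_cases h : 4 ≤ n
        · simp only [farW, dif_pos h, map_commutatorElement, map_mul, map_inv, vX, vWB,
            commutatorElement_eq_one_iff_commute]
          exact RT.far h _
        · simp only [farW, dif_neg h, map_one]
      · simp only [C, map_commutatorElement, map_mul, map_inv, vX, vWB, commutatorElement_eq_one_iff_commute]
        exact RT.near
      · rw [map_mul, map_inv, mul_inv_eq_one]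
        simp only [C, map_mul, map_inv, vX, vS, vWB, vwv, show P lw = lv4 from hlw]
        exact RT.levi
  · refine eq_top_iff.2 fun x _ => ?_
    have : (⊤ : Subgroup (Gsp F n)) ≤ Subgroup.closure (Set.range v) := by
      rw [← pairs_top (by omega) (Subgroup.closure (Set.range v)) fun i k h hk u => ?_]
      obtain ⟨τ, h0, h1⟩ := exists_perm2 hn h
      have hu : T0 u ∈ Subgroup.closure (Set.range v) := by
        obtain ⟨w, rfl⟩ : u ∈ P.range := hP' ▸ Subgroup.mem_top u
        rw [← vwv]
        exact lift_mem_closure v _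
      rw [show i2 ![i, k] (pr h) u = pS τ * T0 u * (pS τ)⁻¹ by
        rw [pS_pair τ (q01 hn)]; exact i2_congr (by rw [h0, h1]) u]
      refine mul_mem (mul_mem ?_ hu) (inv_mem ?_) <;> (rw [← vWB]; exact lift_mem_closure v _)
    exact this (Subgroup.mem_top x)
  · intro G _ w hw _
    have hl : ∀ y ∈ R, FreeGroup.lift w y = 1 := hw
    simp only [R, Finset.mem_union] at hl
    have hφ0 : ∀ u ∈ (↑R0 : Set (FreeGroup (Fin 3))), FreeGroup.lift (fun i => w (Sum.inl (Sum.inl i))) u = 1 :=
      fun u hu => by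
        refine (DFunLike.congr_fun (f := FreeGroup.lift fun i => w (Sum.inl (Sum.inl i)))
          (g := (FreeGroup.lift w).comp (FreeGroup.map fun i => Sum.inl (Sum.inl i)))
          (FreeGroup.ext_hom _ _ fun i => by simp) u).trans ?_
        exact hl _ (Or.inl (Or.inl (Or.inl (Or.inl (Or.inl (Or.inl
          (Finset.mem_image_of_mem _ (Finset.mem_coe.1 hu))))))))
    let φ : S2 F →* G := (PresentedGroup.toGroup hφ0).comp e.symm.toMonoidHom
    have hφ : ∀ i, φ (gi i) = w (Sum.inl (Sum.inl i)) := fun i => by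
      show PresentedGroup.toGroup hφ0 (e.symm (e _)) = _
      rw [e.symm_apply_apply]
      exact PresentedGroup.toGroup.of hφ0
    obtain ⟨ψ, hψ⟩ := huB G (w ∘ Sum.inr) fun u hu => by
      refine (DFunLike.congr_fun (f := FreeGroup.lift (w ∘ Sum.inr))
        (g := (FreeGroup.lift w).comp (FreeGroup.map Sum.inr)) (FreeGroup.ext_hom _ _ fun i => by simp) u).trans ?_
      exact hl _ (Or.inl (Or.inl (Or.inl (Or.inl (Or.inl (Or.inr (Finset.mem_image_of_mem _ hu)))))))
    set x := w (Sum.inl (Sum.inr ())) with hx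
    set s := ψ s01 with hs
    have wW : ∀ y, FreeGroup.lift w (W y) = φ y := fun y =>
      eval_word (fun i => Sum.inl (Sum.inl i)) gi w φ hφ (hpre y)
    have wWB : ∀ y, FreeGroup.lift w (WB y) = ψ y := fun y => eval_word Sum.inr vB w ψ hψ (hpreB y)
    have wX : FreeGroup.lift w X = x := FreeGroup.lift_apply_of
    have wS : FreeGroup.lift w S = s := wWB s01
    have wwv : ∀ u, FreeGroup.lift w (FreeGroup.lift wv u) = FreeGroup.lift (val4 φ s x) u := fun u =>
      DFunLike.congr_fun (f := (FreeGroup.lift w).comp (FreeGroup.lift wv)) (g := FreeGroup.lift (val4 φ s x))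
        (FreeGroup.ext_hom _ _ fun i => by rcases i with g | g | u <;> simp [wv, val4, wW, wX, wS]) u
    have hs2 : s * s = 1 := by rw [hs, ← map_mul, swap_mul_self, map_one]
    have hL : ∀ y ∈ L, FreeGroup.lift w y = 1 := fun y hy => hl y (Or.inr (List.mem_toFinset.2 hy))
    simp only [L, List.mem_cons, List.not_mem_nil, or_false, forall_eq_or_imp, forall_eq] at hL
    obtain ⟨l1, l2, l3, l4, l5, l6, l7, l8, l9, l10⟩ := hL
    have hcomm : ∀ a b, Commute (φ a) (s * φ b * s⁻¹) := by
      have base : ∀ p ∈ pairs3, Commute (φ (gi p.1)) (s * φ (gi p.2) * s⁻¹) := fun p hp => by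
        have := hl _ (Or.inl (Or.inl (Or.inl (Or.inl (Or.inr
          (Finset.mem_image_of_mem _ (List.mem_toFinset.2 hp)))))))
        rwa [map_commutatorElement, map_mul, map_mul, map_inv, wW, wW, wS,
          commutatorElement_eq_one_iff_commute] at this
      have base' : ∀ a b, Commute (φ (gi a)) (s * φ (gi b) * s⁻¹) := fun a b => by
        rcases pairs3_cover a b with h | h
        · exact base _ h
        · have h2 := (base _ h).map (MulAut.conj s).toMonoidHom
          change Commute (s * φ (gi b) * s⁻¹) (s * (s * φ (gi a) * s⁻¹) * s⁻¹) at h2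
          rw [show s * (s * φ (gi a) * s⁻¹) * s⁻¹ = (s * s) * φ (gi a) * (s * s)⁻¹ by group, hs2, one_mul,
            inv_one, mul_one] at h2
          exact h2.symm
      exact comm_ext gi gi hgi hgi φ ((MulAut.conj s).toMonoidHom.comp φ) base'
    rw [map_commutatorElement, wS, wX] at l1
    simp only [Dj, map_mul, map_inv, wW, wS, wX] at l2
    rw [map_commutatorElement, wW, wX] at l3 l4
    simp only [hrel, map_mul, map_inv, wW, wS, wX] at l5 l6
    rw [map_mul, map_inv, wS, wwv, mul_inv_eq_one] at l7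
    simp only [C, map_commutatorElement, map_mul, map_inv, wX, wWB,
      commutatorElement_eq_one_iff_commute] at l9
    rw [map_mul, map_inv, mul_inv_eq_one] at l10
    simp only [C, map_mul, map_inv, wX, wS, wWB, wwv] at l10
    have RS : RelsShort hn j φ x ψ :=
      { rel4 :=
          { comm := hcomm
            s2 := hs2
            sx := commutatorElement_eq_one_iff_commute.1 l1
            dx := mul_inv_eq_one.1 l2
            ux := by
              rintro c (rfl | rfl)
              · exact commutatorElement_eq_one_iff_commute.1 l3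
              · exact commutatorElement_eq_one_iff_commute.1 l4
            hr := by
              rintro c (rfl | rfl) hc
              · exact mul_inv_eq_one.1 (by rw [map_mul]; exact l5)
              · exact mul_inv_eq_one.1 (by rw [map_mul]; exact l6) }
        stab0 := fun τ h0 y => by
          have key : Subgroup.closure (Set.range fx0) ≤ (Subgroup.centralizer {φ y}).comap ψ := by
            rw [Subgroup.closure_le]
            rintro _ ⟨i, rfl⟩
            refine Subgroup.mem_centralizer_singleton_iff.2 ?_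
            have : Subgroup.closure (Set.range gi) ≤ (Subgroup.centralizer {ψ (fx0 i)}).comap φ := by
              rw [Subgroup.closure_le]
              rintro _ ⟨k, rfl⟩
              have := hl _ (Or.inl (Or.inl (Or.inl (Or.inr (Finset.mem_image_of_mem _ (Finset.mem_univ (i, k)))))))
              rw [map_commutatorElement, wW, wWB, commutatorElement_eq_one_iff_commute] at this
              exact Subgroup.mem_centralizer_singleton_iff.2 this.symm.eq
            exact (Subgroup.mem_centralizer_singleton_iff.1 (this (hgi ▸ Subgroup.mem_top y))).symm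
          exact Subgroup.mem_centralizer_singleton_iff.1 (key (hfx0g τ (by simpa using h0)))
        stab01 := fun τ h0 h1 => by
          have key : Subgroup.closure (Set.range fx1) ≤ (Subgroup.centralizer {x}).comap ψ := by
            rw [Subgroup.closure_le]
            rintro _ ⟨i, rfl⟩
            have := hl _ (Or.inl (Or.inl (Or.inr (Finset.mem_image_of_mem _ (Finset.mem_univ i)))))
            rw [map_commutatorElement, wWB, wX, commutatorElement_eq_one_iff_commute] at this
            exact Subgroup.mem_centralizer_singleton_iff.2 this.eq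
          exact Subgroup.mem_centralizer_singleton_iff.1 (key (hfx1g τ (by simp [h0, h1])))
        disj := fun y => by
          have key : Subgroup.closure (Set.range gi) ≤ (Subgroup.centralizer {x}).comap
              ((MulAut.conj (ψ (swap (q0 hn) (q2 hn)))).toMonoidHom.comp φ) := by
            rw [Subgroup.closure_le]
            rintro _ ⟨i, rfl⟩
            have := hl _ (Or.inl (Or.inr (Finset.mem_image_of_mem _ (Finset.mem_univ i))))
            rw [map_commutatorElement, map_mul, map_mul, map_inv, wX, wW, wWB,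
              commutatorElement_eq_one_iff_commute] at this
            exact Subgroup.mem_centralizer_singleton_iff.2 this.symm.eq
          exact (Subgroup.mem_centralizer_singleton_iff.1 (key (hgi ▸ Subgroup.mem_top y))).symm
        far := fun h => by
          simp only [farW, dif_pos h, map_commutatorElement, map_mul, map_inv, wX, wWB,
            commutatorElement_eq_one_iff_commute] at l8
          exact l8
        near := l9 }
    obtain ⟨f4, f40, f4x, f4s, RG⟩ := rels_of_short hn hj RS ⟨sw, hsw, l7.symm⟩ ⟨lw, hlw, l10⟩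
    obtain ⟨f, hf⟩ := exists_hom RG
    have h0 : (q0 hn : ℕ) + 1 < n := by show 0 + 1 < n; omega
    have hf0 : ∀ y, f (T0 y) = f4 y := fun y => by
      rw [← Phi_base RG y]
      exact hf (q0 hn) h0 y
    have hfp : f.comp pS = ψ := perm_ext_adjacent fun i hi => by
      obtain ⟨τ, t0, t1⟩ := exists_perm2 hn (nx_ne i hi)
      rw [MonoidHom.comp_apply, pS_swap (nx_ne i hi), hf i hi, Phi_eq RG τ t0 t1, f4s, ← map_mul,
        ← map_inv, ← map_mul, ← Equiv.swap_apply_apply, t0, t1]
    refine ⟨f, fun i => ?_⟩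
    rcases i with (i | u) | b
    · exact (hf0 _).trans ((f40 (gi i)).trans (hφ i))
    · exact (hf0 _).trans f4x
    · exact (DFunLike.congr_fun hfp (vB b)).trans (hψ b)

end Cfsg.Agent.SpBound
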