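import Cfsg.Agent.Lib.SpBound.Short.Four
import Cfsg.Agent.Lib.SpBound.Universal

/-!
A shorter list of relations implying the relations between a four-dimensional group and the
permutations.
-/

set_option autoImplicit false
set_option linter.unusedSectionVars false
set_option linter.unusedSimpArgs false

namespace Cfsg.Agent.SpBound

open SpAmalgam Equiv

variable {F : Type*} [Field F] [Finite F] {n : ℕ} (hn : 3 ≤ n) {G : Type*} [Group G]

theorem c3_s01 : cyc3 hn * swap (q0 hn) (q1 hn) = swap (q0 hn) (q2 hn) := by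
  rw [cyc3, show swap (q0 hn) (q1 hn) * swap (q1 hn) (q2 hn) * swap (q0 hn) (q1 hn) =
    swap (q0 hn) (q1 hn) * swap (q1 hn) (q2 hn) * (swap (q0 hn) (q1 hn))⁻¹ by rw [swap_inv],
    ← Equiv.swap_apply_apply, swap_apply_right, swap_apply_of_ne_of_ne (q02 hn).symm (q12 hn).symm]

/-- The short list of relations. -/
structure RelsShort (j : Fˣ) (φ : S2 F →* G) (x : G) (ψ : Perm (Fin n) →* G) : Prop where
  rel4 : Four.Rel4 j φ (ψ (swap (q0 hn) (q1 hn))) x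
  stab0 : ∀ τ, τ (q0 hn) = q0 hn → ∀ g, Commute (ψ τ) (φ g)
  stab01 : ∀ τ, τ (q0 hn) = q0 hn → τ (q1 hn) = q1 hn → Commute (ψ τ) x
  disj : ∀ y, Commute x (ψ (swap (q0 hn) (q2 hn)) * φ y * (ψ (swap (q0 hn) (q2 hn)))⁻¹)
  far : ∀ (h : 4 ≤ n), Commute x (ψ (exch4 hn h) * x * (ψ (exch4 hn h))⁻¹)
  near : Commute x (ψ (cyc3 hn) * x * (ψ (cyc3 hn))⁻¹)

theorem rels_of_short {j : Fˣ} (hj : ∀ t, t ∈ Subgroup.zpowers j) {φ : S2 F →* G} {x : G}
    {ψ : Perm (Fin n) →* G} (R : RelsShort hn j φ x ψ)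
    (hsw : ∃ sw : FreeGroup (S2 F ⊕ S2 F ⊕ Unit),
      FreeGroup.lift (val4 (emb (0 : Fin 2)) (Four.swap4 : Gsp F 2) Four.x4) sw = Four.swap4 ∧
        FreeGroup.lift (val4 φ (ψ (swap (q0 hn) (q1 hn))) x) sw = ψ (swap (q0 hn) (q1 hn)))
    (hlv : ∃ lw : FreeGroup (S2 F ⊕ S2 F ⊕ Unit),
      FreeGroup.lift (val4 (emb (0 : Fin 2)) (Four.swap4 : Gsp F 2) Four.x4) lw = lv4 ∧
        ψ (cyc3 hn) * x * (ψ (cyc3 hn))⁻¹ * (ψ (swap (q0 hn) (q1 hn)) *
            (ψ (cyc3 hn) * x * (ψ (cyc3 hn))⁻¹) * (ψ (swap (q0 hn) (q1 hn)))⁻¹) =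
          FreeGroup.lift (val4 φ (ψ (swap (q0 hn) (q1 hn))) x) lw * (ψ (cyc3 hn) * x * (ψ (cyc3 hn))⁻¹) *
            (FreeGroup.lift (val4 φ (ψ (swap (q0 hn) (q1 hn))) x) lw)⁻¹) :
    ∃ f : Gsp F 2 →* G, (∀ g, f (emb 0 g) = φ g) ∧ f Four.x4 = x ∧
      f Four.swap4 = ψ (swap (q0 hn) (q1 hn)) ∧ RelsSp hn f ψ := by
  obtain ⟨f, f0, fs, fx⟩ := exists_hom4 R.rel4 hj hsw
  set s := ψ (swap (q0 hn) (q1 hn)) with hsdef
  have f1 : ∀ g, f (emb 1 g) = s * φ g * s⁻¹ := fun g => by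
    rw [← Four.swap4_emb, map_mul, map_mul, map_inv, f0, fs]
  have h01 := q01 hn
  have fixed : ∀ τ, τ (q0 hn) = q0 hn → τ (q1 hn) = q1 hn → ∀ x, Commute (ψ τ) (f x) := by
    intro τ h0 h1 y
    have hts : Commute (ψ τ) s := by
      refine Commute.map ?_ ψ
      show τ * swap (q0 hn) (q1 hn) = swap (q0 hn) (q1 hn) * τ
      rw [← mul_inv_eq_iff_eq_mul, ← Equiv.swap_apply_apply, h0, h1]
    have key := Four.top_of_mem ((Subgroup.centralizer {ψ τ}).comap f)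
      (fun g => Subgroup.mem_centralizer_singleton_iff.2 (by rw [f0]; exact (R.stab0 τ h0 g).symm.eq))
      (fun g => Subgroup.mem_centralizer_singleton_iff.2 (by
        rw [f1]; exact ((hts.mul_right (R.stab0 τ h0 g)).mul_right hts.inv_right).symm.eq))
      (Subgroup.mem_centralizer_singleton_iff.2 (by rw [fx]; exact (R.stab01 τ h0 h1).symm.eq))
    exact (Subgroup.mem_centralizer_singleton_iff.1 (Subgroup.mem_comap.1 (key ▸ Subgroup.mem_top y))).symm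
  -- the rank one group of the third index
  let D : S2 F →* G := (MulAut.conj (ψ (swap (q0 hn) (q2 hn)))).toMonoidHom.comp φ
  have hDx : ∀ y, Commute x (D y) := R.disj
  have hperm : ∀ (σ τ : Perm (Fin n)), σ (q0 hn) = τ (q0 hn) → ∀ y,
      ψ σ * φ y * (ψ σ)⁻¹ = ψ τ * φ y * (ψ τ)⁻¹ := by
    intro σ τ h y
    have hc := R.stab0 (τ⁻¹ * σ) (show τ⁻¹ (σ (q0 hn)) = q0 hn by
      rw [h, Perm.inv_def, Equiv.symm_apply_apply]) y
    rw [show ψ σ = ψ τ * ψ (τ⁻¹ * σ) by rw [← map_mul, mul_inv_cancel_left],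
      show ψ τ * ψ (τ⁻¹ * σ) * φ y * (ψ τ * ψ (τ⁻¹ * σ))⁻¹ =
        ψ τ * (ψ (τ⁻¹ * σ) * φ y * (ψ (τ⁻¹ * σ))⁻¹) * (ψ τ)⁻¹ by group, hc.eq, mul_inv_cancel_right]
  have hD0 : ∀ g y, Commute (φ g) (D y) := by
    intro g y
    have h := (R.rel4.comm g y).map (MulAut.conj (ψ (swap (q1 hn) (q2 hn)))).toMonoidHom
    have e1 : ψ (swap (q1 hn) (q2 hn)) * φ g * (ψ (swap (q1 hn) (q2 hn)))⁻¹ = φ g := by
      rw [(R.stab0 (swap (q1 hn) (q2 hn)) (swap_apply_of_ne_of_ne h01 (q02 hn)) g).eq, mul_inv_cancel_right]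
    have e2 : ψ (swap (q1 hn) (q2 hn)) * (s * φ y * s⁻¹) * (ψ (swap (q1 hn) (q2 hn)))⁻¹ = D y := by
      show _ = ψ (swap (q0 hn) (q2 hn)) * φ y * (ψ (swap (q0 hn) (q2 hn)))⁻¹
      rw [← hperm (swap (q1 hn) (q2 hn) * swap (q0 hn) (q1 hn)) (swap (q0 hn) (q2 hn)) (by
        rw [Perm.mul_apply, swap_apply_left, swap_apply_left, swap_apply_left]), map_mul]
      simp [hsdef, mul_assoc]
    change Commute (ψ (swap (q1 hn) (q2 hn)) * φ g * (ψ (swap (q1 hn) (q2 hn)))⁻¹)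
      (ψ (swap (q1 hn) (q2 hn)) * (s * φ y * s⁻¹) * (ψ (swap (q1 hn) (q2 hn)))⁻¹) at h
    rwa [e1, e2] at h
  have hD1 : ∀ g y, Commute (s * φ g * s⁻¹) (D y) := by
    intro g y
    have h := (hD0 g y).map (MulAut.conj s).toMonoidHom
    have e2 : s * D y * s⁻¹ = D y := by
      show s * (ψ (swap (q0 hn) (q2 hn)) * φ y * (ψ (swap (q0 hn) (q2 hn)))⁻¹) * s⁻¹ = _
      have := hperm (swap (q0 hn) (q1 hn) * swap (q0 hn) (q2 hn)) (swap (q0 hn) (q2 hn)) (by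
        rw [Perm.mul_apply, swap_apply_left, swap_apply_of_ne_of_ne (q02 hn).symm (q12 hn).symm]) y
      rw [map_mul, ← hsdef] at this
      refine Eq.trans ?_ this
      group
    change Commute (s * φ g * s⁻¹) (s * D y * s⁻¹) at h
    rwa [e2] at h
  have hcD : ∀ y, ψ (cyc3 hn) * f (emb 1 y) * (ψ (cyc3 hn))⁻¹ = D y := fun y => by
    rw [f1]
    show _ = ψ (swap (q0 hn) (q2 hn)) * φ y * (ψ (swap (q0 hn) (q2 hn)))⁻¹
    rw [← c3_s01 hn, map_mul, ← hsdef]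
    group
  have disj : ∀ x y, Commute (f x) (ψ (cyc3 hn) * f (emb 1 y) * (ψ (cyc3 hn))⁻¹) := by
    intro z y
    rw [hcD]
    have key := Four.top_of_mem ((Subgroup.centralizer {D y}).comap f)
      (fun g => Subgroup.mem_centralizer_singleton_iff.2 (by rw [f0]; exact (hD0 g y).eq))
      (fun g => Subgroup.mem_centralizer_singleton_iff.2 (by rw [f1]; exact (hD1 g y).eq))
      (Subgroup.mem_centralizer_singleton_iff.2 (by rw [fx]; exact (hDx y).eq))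
    exact Subgroup.mem_centralizer_singleton_iff.1 (Subgroup.mem_comap.1 (key ▸ Subgroup.mem_top z))
  obtain ⟨lw, hlw, hlevi⟩ := hlv
  have flv : f lv4 = FreeGroup.lift (val4 φ s x) lw := by
    rw [← hlw]
    exact DFunLike.congr_fun (f := f.comp (FreeGroup.lift (val4 (emb (0 : Fin 2)) (Four.swap4 : Gsp F 2) Four.x4)))
      (g := FreeGroup.lift (val4 φ s x)) (FreeGroup.ext_hom _ _ fun i => by
        rcases i with g | g | u <;> simp [val4, f0, fs, fx]) lw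
  refine ⟨f, f0, fx, fs, ⟨fixed, fun y => ?_, fun y => ?_, disj, fun h y => ?_, ?_, ?_⟩⟩
  · rw [map_mul, map_mul, map_inv, fs]
  · rw [f0]; exact R.stab0 _ (swap_apply_of_ne_of_ne h01 (q02 hn)) y
  · -- far
    set E := exch4 hn h with hE
    have hq : E (q2 hn) = q0 hn := by
      have h13 : q2 hn ≠ q1 hn ∧ q2 hn ≠ (⟨3, by omega⟩ : Fin n) := ⟨(q12 hn).symm, by simp [q2, Fin.ext_iff]⟩
      rw [hE, exch4, Perm.mul_apply, swap_apply_of_ne_of_ne h13.1 h13.2, swap_apply_right]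
    have hE0 : ∀ g, Commute (φ g) (ψ E * x * (ψ E)⁻¹) := fun g => by
      have h' := ((hDx g).map (MulAut.conj (ψ E)).toMonoidHom).symm
      have e : ψ E * D g * (ψ E)⁻¹ = φ g := by
        show ψ E * (ψ (swap (q0 hn) (q2 hn)) * φ g * (ψ (swap (q0 hn) (q2 hn)))⁻¹) * (ψ E)⁻¹ = _
        have := hperm (E * swap (q0 hn) (q2 hn)) 1 (by
          rw [Perm.mul_apply, swap_apply_left, hq, Perm.one_apply]) g
        rw [map_mul, map_one, one_mul, inv_one, mul_one] at this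
        refine Eq.trans ?_ this
        group
      change Commute (ψ E * D g * (ψ E)⁻¹) (ψ E * x * (ψ E)⁻¹) at h'
      rwa [e] at h'
    have hsE : s * (ψ E * x * (ψ E)⁻¹) * s⁻¹ = ψ E * x * (ψ E)⁻¹ := by
      let q3 : Fin n := ⟨3, by omega⟩
      let t : Perm (Fin n) := swap (q2 hn) q3
      have e1 : E⁻¹ * swap (q0 hn) (q1 hn) * E = t := by
        rw [show E⁻¹ * swap (q0 hn) (q1 hn) * E = E⁻¹ * swap (q0 hn) (q1 hn) * (E⁻¹)⁻¹ by rw [inv_inv],
          ← Equiv.swap_apply_apply]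
        have a0 : E⁻¹ (q0 hn) = q2 hn := by rw [Perm.inv_eq_iff_eq, hq]
        have a1 : E⁻¹ (q1 hn) = q3 := by
          rw [Perm.inv_eq_iff_eq, hE, exch4, Perm.mul_apply, swap_apply_right,
            swap_apply_of_ne_of_ne h01.symm (q12 hn)]
        rw [a0, a1]
      have hc : Commute (ψ t) x := R.stab01 t (swap_apply_of_ne_of_ne (q02 hn) (by simp [q0, q3, Fin.ext_iff]))
        (swap_apply_of_ne_of_ne (q12 hn) (by simp [q1, q3, Fin.ext_iff]))
      have e2 : s * ψ E = ψ E * ψ t := by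
        rw [hsdef, ← map_mul, ← map_mul, ← e1]
        congr 1
        group
      calc s * (ψ E * x * (ψ E)⁻¹) * s⁻¹ = (s * ψ E) * x * (s * ψ E)⁻¹ := by group
        _ = ψ E * (ψ t * x * (ψ t)⁻¹) * (ψ E)⁻¹ := by rw [e2]; group
        _ = _ := by rw [hc.eq, mul_inv_cancel_right]
    have key := Four.top_of_mem ((Subgroup.centralizer {ψ E * f Four.x4 * (ψ E)⁻¹}).comap f)
      (fun g => Subgroup.mem_centralizer_singleton_iff.2 (by rw [f0, fx]; exact (hE0 g).eq))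
      (fun g => Subgroup.mem_centralizer_singleton_iff.2 (by
        rw [f1, fx]
        have h' := (hE0 g).map (MulAut.conj s).toMonoidHom
        change Commute (s * φ g * s⁻¹) (s * (ψ E * x * (ψ E)⁻¹) * s⁻¹) at h'
        rw [hsE] at h'
        exact h'.eq))
      (Subgroup.mem_centralizer_singleton_iff.2 (by rw [fx]; exact (R.far h).eq))
    exact Subgroup.mem_centralizer_singleton_iff.1 (Subgroup.mem_comap.1 (key ▸ Subgroup.mem_top y))
  · rw [fx]; exact R.near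
  · rw [fx, fs, flv]; exact hlevi

end Cfsg.Agent.SpBound
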